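import Mathlib
import Groth.Agent.H3Cyc.GenStalk
import Groth.Agent.H28Pinch.ContractionUnique
import Groth.Agent.S2821
set_option linter.style.haveILetI false
set_option backward.isDefEq.respectTransparency false

/-! The exceptional locus of a proper birational morphism to a regular scheme. -/

universe u

open CategoryTheory CategoryTheory.Limits AlgebraicGeometry IsLocalRing

namespace Groth.Agent.H23Exc

variable {X Y : Scheme.{u}} (f : X ⟶ Y)

/-- The exceptional locus. -/
def Exc : Set X := {x | ∀ V : Y.Opens, f x ∈ V → ¬ IsIso (f ∣_ V)}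

theorem isClosed_exc : IsClosed (Exc f) := by
  rw [← isOpen_compl_iff, isOpen_iff_forall_mem_open]
  intro x hx
  simp only [Exc, Set.mem_compl_iff, Set.mem_setOf_eq, not_forall, not_not] at hx
  obtain ⟨V, hxV, hV⟩ := hx
  exact ⟨f ⁻¹' V, fun y hy hy' => hy' V hy hV, V.2.preimage f.continuous, hxV⟩

theorem isIso_stalkMap_of_notMem {x : X} (hx : x ∉ Exc f) : IsIso (f.stalkMap x) := by
  simp only [Exc, Set.mem_setOf_eq, not_forall, not_not] at hx
  obtain ⟨V, hxV, hV⟩ := hx
  haveI := hV
  haveI : IsIso ((f ∣_ V).stalkMap ⟨x, hxV⟩) := inferInstance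
  have h : MorphismProperty.isomorphisms CommRingCat ((f ∣_ V).stalkMap ⟨x, hxV⟩) :=
    (MorphismProperty.isomorphisms.iff _).2 inferInstance
  exact (MorphismProperty.isomorphisms.iff _).1
    (((MorphismProperty.isomorphisms CommRingCat).arrow_mk_iso_iff (morphismRestrictStalkMap f V ⟨x, hxV⟩)).1 h)

variable [IsIntegral X] [IsIntegral Y]

theorem specializes_injective {Z : Scheme.{u}} [IsIntegral Z] {a b : Z} (h : a ⤳ b) :
    Function.Injective (Z.presheaf.stalkSpecializes h).hom := by
  letI := (Z.presheaf.stalkSpecializes h).hom.toAlgebra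
  haveI := H3Cyc.GenStalk.isPrime_ker b a h
  haveI := H3Cyc.GenStalk.isLocalization_stalkSpecializes b a h
  exact IsLocalization.injective (Z.presheaf.stalk a)
    (M := (RingHom.ker (Cyc.specMap b a h)).primeCompl)
    (le_nonZeroDivisors_of_noZeroDivisors fun h0 => h0 (Ideal.zero_mem _))

variable {f}

theorem stalkMap_injective (hη : genericPoint X ∉ Exc f) (z : X) :
    Function.Injective (f.stalkMap z).hom := by
  haveI := isIso_stalkMap_of_notMem f hη
  intro a b h
  refine specializes_injective (f.base.hom.map_specializes (genericPoint_specializes z))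
    ((ConcreteCategory.bijective_of_isIso (f.stalkMap (genericPoint X))).1 ?_)
  rw [Scheme.Hom.stalkSpecializes_stalkMap_apply f (genericPoint X) z (genericPoint_specializes z),
    Scheme.Hom.stalkSpecializes_stalkMap_apply f (genericPoint X) z (genericPoint_specializes z)]
  exact congrArg _ h

variable (f) in
theorem fibre_eq_singleton [IsSeparated f] (hη : genericPoint X ∉ Exc f) {z z' : X}
    [IsIso (f.stalkMap z)] (hz : f z' = f z) : z' = z := by
  haveI := isIso_stalkMap_of_notMem f hη
  let ψ : X.presheaf.stalk z ⟶ X.presheaf.stalk z' :=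
    inv (f.stalkMap z) ≫ Y.presheaf.stalkSpecializes (specializes_of_eq hz) ≫ f.stalkMap z'
  haveI : IsLocalHom ψ.hom := ⟨fun a ha => by
    obtain ⟨c, rfl⟩ := (ConcreteCategory.bijective_of_isIso (f.stalkMap z)).2 a
    have h1 : ψ (f.stalkMap z c) = f.stalkMap z' (Y.presheaf.stalkSpecializes (specializes_of_eq hz) c) := by
      simp [ψ]
    rw [h1] at ha
    have h2 := isUnit_of_map_unit (f.stalkMap z').hom _ ha
    haveI : IsIso (Y.presheaf.stalkSpecializes (specializes_of_eq hz)) :=
      inferInstanceAs (IsIso (Y.presheaf.stalkCongr (.of_eq hz.symm)).hom)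
    exact ((isUnit_map_iff _ c).1 h2).map _⟩
  let j : Spec (X.presheaf.stalk z') ⟶ X := Spec.map ψ ≫ X.fromSpecStalk z
  have hj : j ≫ f = X.fromSpecStalk z' ≫ f := by
    rw [Category.assoc, ← Scheme.SpecMap_stalkMap_fromSpecStalk, ← Scheme.SpecMap_stalkMap_fromSpecStalk,
      ← Spec.map_comp_assoc, IsIso.hom_inv_id_assoc, Spec.map_comp, Category.assoc,
      Scheme.SpecMap_stalkSpecializes_fromSpecStalk]
  let ι := Spec.map (X.presheaf.stalkSpecializes (genericPoint_specializes z'))
  haveI : IsDominant ι := ⟨fun y => by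
    have h1 : (ι (IsLocalRing.closedPoint _) : Spec (X.presheaf.stalk z')) ⤳ y := by
      refine (PrimeSpectrum.le_iff_specializes _ _).1 (fun a ha => ?_)
      have ha' : (X.presheaf.stalkSpecializes (genericPoint_specializes z')).hom a ∈ maximalIdeal _ := ha
      rw [(isField_iff_maximalIdeal_eq.1 (Field.toIsField X.functionField) : maximalIdeal (X.presheaf.stalk (genericPoint X)) = ⊥),
        Submodule.mem_bot, map_eq_zero_iff _ (specializes_injective _)] at ha'
      rw [ha']
      exact Ideal.zero_mem _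
    exact closure_mono (Set.singleton_subset_iff.2 (Set.mem_range_self _)) (specializes_iff_mem_closure.1 h1)⟩
  have hcomp : ψ ≫ X.presheaf.stalkSpecializes (genericPoint_specializes z') =
      X.presheaf.stalkSpecializes (genericPoint_specializes z) := by
    rw [← cancel_epi (f.stalkMap z)]
    simp only [ψ, Category.assoc, IsIso.hom_inv_id_assoc]
    rw [
      ← Scheme.Hom.stalkSpecializes_stalkMap, ← Scheme.Hom.stalkSpecializes_stalkMap]
    simp
  have heq : j = X.fromSpecStalk z' := ext_of_isDominant_of_isSeparated f hj ι (by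
    rw [← Spec.map_comp_assoc, hcomp, Scheme.SpecMap_stalkSpecializes_fromSpecStalk,
      Scheme.SpecMap_stalkSpecializes_fromSpecStalk])
  have h3 : j (closedPoint _) = z := by
    show (X.fromSpecStalk z) (Spec.map ψ (closedPoint (X.presheaf.stalk z') : Spec (X.presheaf.stalk z'))) = z
    erw [Spec_closedPoint, Scheme.fromSpecStalk_closedPoint]
  rw [heq, Scheme.fromSpecStalk_closedPoint] at h3
  exact h3

theorem isIso_of_bijective_app' {X Y : Scheme.{u}} (g : X ⟶ Y) [IsAffineHom g]
    (h : ∀ V : Y.Opens, Function.Bijective (g.app V)) : IsIso g := by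
  show MorphismProperty.isomorphisms Scheme g
  rw [HasAffineProperty.iff_of_iSup_eq_top (P := MorphismProperty.isomorphisms Scheme)
    (fun U : Y.affineOpens ↦ U) (iSup_affineOpens_eq_top Y)]
  intro U
  refine ⟨U.2.preimage g, ?_⟩
  have h1 : IsIso (g.app ((U.1 : Y.Opens).ι ''ᵁ ⊤)) := (ConcreteCategory.isIso_iff_bijective _).2 (h _)
  rw [morphismRestrict_appTop]
  exact @IsIso.comp_isIso _ _ _ _ _ _ _ h1 (Functor.map_isIso X.presheaf _)

theorem not_isIso_stalkMap [IsProper f] [IsLocallyNoetherian X] (hY : Pi1.IsNormalScheme Y)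
    (hη : genericPoint X ∉ Exc f) (hgen : f (genericPoint X) = genericPoint Y) {z : X}
    (hz : z ∈ Exc f) : ¬ IsIso (f.stalkMap z) := by
  intro hiso
  have hfib : f ⁻¹' {f z} = {z} := Set.ext fun z' => ⟨fun h => fibre_eq_singleton f hη h, fun h => congrArg f h⟩
  have hqf : z ∈ f.quasiFiniteLocus := by
    refine Scheme.Hom.quasiFiniteAt_iff_isOpen_singleton_asFiber.mpr ?_
    haveI : Subsingleton ↥(f.fiber (f z)) := ⟨fun a b => (f.fiberι (f z)).isEmbedding.injective (by
      have ha := (f.range_fiberι (f z)).le ⟨a, rfl⟩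
      have hb := (f.range_fiberι (f z)).le ⟨b, rfl⟩
      rw [hfib] at ha hb
      exact (Set.mem_singleton_iff.1 ha).trans (Set.mem_singleton_iff.1 hb).symm)⟩
    exact isOpen_discrete _
  let V₀ : Y.Opens := ⟨(f '' (f.quasiFiniteLocus : Set X)ᶜ)ᶜ,
    (f.isClosedMap _ f.quasiFiniteLocus.isOpen.isClosed_compl).isOpen_compl⟩
  obtain ⟨V, hV, hyV, hVV⟩ := exists_isAffineOpen_mem_and_subset (X := Y) (x := f z) (U := V₀)
    (fun ⟨w, hw, hwy⟩ => hw ((fibre_eq_singleton f hη hwy).symm ▸ hqf))
  have hle : f ⁻¹ᵁ V ≤ f.quasiFiniteLocus := fun w hw => by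
    by_contra hn
    exact hVV hw ⟨w, hn, rfl⟩
  haveI : LocallyQuasiFinite (f ∣_ V) := by
    haveI : LocallyQuasiFinite ((f ∣_ V) ≫ V.ι) := by
      rw [morphismRestrict_ι, ← X.homOfLE_ι hle, Category.assoc]
      infer_instance
    exact (LocallyQuasiFinite.comp_iff (f ∣_ V) V.ι).mp inferInstance
  haveI : IsProper (f ∣_ V) := IsZariskiLocalAtTarget.restrict (P := @IsProper) ‹IsProper f› V
  haveI : IsFinite (f ∣_ V) := .of_isProper_of_locallyQuasiFinite _
  haveI := isIso_stalkMap_of_notMem f hη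
  have hbij := H28Pinch.bijective_app_of_birational f hY hgen
    (ConcreteCategory.bijective_of_isIso (f.stalkMap (genericPoint X)))
  refine hz V hyV (isIso_of_bijective_app' (f ∣_ V) fun W => ?_)
  rw [morphismRestrict_app]
  exact (ConcreteCategory.bijective_of_isIso (X.presheaf.map _)).comp (hbij _)

theorem immediate_of_maximal [IsProper f] [IsLocallyNoetherian X] [IsLocallyNoetherian Y]
    (hY : ∀ y : Y, IsRegularLocalRing (Y.presheaf.stalk y))
    (hη : genericPoint X ∉ Exc f) (hgen : f (genericPoint X) = genericPoint Y) {z : X}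
    (hz : z ∈ Exc f) (hmax : ∀ w, w ∈ Exc f → w ⤳ z → w = z) :
    ∀ w, w ⤳ z → w = genericPoint X ∨ w = z := by
  haveI := hY (f z)
  obtain ⟨hdom, hufd⟩ := S2821.result (Y.presheaf.stalk (f z))
  haveI := hufd
  have hN : Pi1.IsNormalScheme Y := fun y => by
    haveI := hY y
    obtain ⟨h1, h2⟩ := S2821.result (Y.presheaf.stalk y)
    exact ⟨h1, haveI := h2; inferInstance⟩
  have hinj := stalkMap_injective hη z
  obtain ⟨t, ht⟩ : ∃ t, ∀ c, f.stalkMap z c ≠ t := by
    by_contra! hcon
    exact not_isIso_stalkMap hN hη hgen hz ((ConcreteCategory.isIso_iff_bijective _).2 ⟨hinj, hcon⟩)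
  haveI := isIso_stalkMap_of_notMem f hη
  have hspη := f.base.hom.map_specializes (genericPoint_specializes z)
  obtain ⟨c, hc⟩ := (ConcreteCategory.bijective_of_isIso (f.stalkMap (genericPoint X))).2
    (X.presheaf.stalkSpecializes (genericPoint_specializes z) t)
  -- `t` is a fraction
  obtain ⟨a, b, hb0, hrel, hab⟩ : ∃ a b, b ≠ 0 ∧ IsRelPrime a b ∧
      f.stalkMap z b * t = f.stalkMap z a := by
    letI := (Y.presheaf.stalkSpecializes hspη).hom.toAlgebra
    haveI := H3Cyc.GenStalk.isPrime_ker (f z) (f (genericPoint X)) hspη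
    haveI := H3Cyc.GenStalk.isLocalization_stalkSpecializes (f z) (f (genericPoint X)) hspη
    obtain ⟨⟨α, s⟩, hαs⟩ := IsLocalization.surj
      (RingHom.ker (Cyc.specMap (f z) (f (genericPoint X)) hspη)).primeCompl c
    have hs0 : s.1 ≠ 0 := fun h => s.2 (h ▸ Ideal.zero_mem _)
    obtain ⟨a, b, d, hrel, hda, hdb⟩ := UniqueFactorizationMonoid.exists_reduced_factors' α s.1 hs0
    have hd : d ≠ 0 := fun h => hs0 (by rw [← hdb, h, zero_mul])
    refine ⟨a, b, fun h => hs0 (by rw [← hdb, h, mul_zero]), hrel, ?_⟩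
    have h1 : f.stalkMap z s.1 * t = f.stalkMap z α := by
      refine specializes_injective (genericPoint_specializes z) ?_
      rw [map_mul, ← hc, ← Scheme.Hom.stalkSpecializes_stalkMap_apply,
        ← Scheme.Hom.stalkSpecializes_stalkMap_apply, ← map_mul, mul_comm]
      exact congrArg _ hαs
    rw [← hda, ← hdb, map_mul, map_mul, mul_assoc] at h1
    exact mul_left_cancel₀ (fun h => hd (hinj (h.trans (map_zero _).symm))) h1
  have hbu : ¬ IsUnit (f.stalkMap z b) := fun h => by
    obtain ⟨u, hu⟩ := isUnit_of_map_unit (f.stalkMap z).hom b h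
    refine ht (↑u⁻¹ * a) ?_
    rw [map_mul, ← hab, ← mul_assoc, ← map_mul, ← hu, Units.inv_mul, map_one, one_mul]
  obtain ⟨q, hq⟩ := Ideal.nonempty_minimalPrimes
    (fun h => hbu (Ideal.span_singleton_eq_top.1 h) : Ideal.span {f.stalkMap z b} ≠ ⊤)
  haveI := hq.1.1
  obtain ⟨hwz, hqker⟩ := H3Cyc.GenStalk.ker_specMap_fromSpecStalk z ⟨q, hq.1.1⟩
  have hwE : X.fromSpecStalk z ⟨q, hq.1.1⟩ ∈ Exc f := by
    by_contra hw
    have hqker : q = RingHom.ker (Cyc.specMap z (X.fromSpecStalk z ⟨q, hq.1.1⟩) hwz) := hqker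
    generalize X.fromSpecStalk z ⟨q, hq.1.1⟩ = w at hwz hqker hw
    haveI := isIso_stalkMap_of_notMem f hw
    have hsp := f.base.hom.map_specializes hwz
    obtain ⟨c', hc'⟩ := (ConcreteCategory.bijective_of_isIso (f.stalkMap w)).2
      (X.presheaf.stalkSpecializes hwz t)
    letI := (Y.presheaf.stalkSpecializes hsp).hom.toAlgebra
    haveI := H3Cyc.GenStalk.isPrime_ker (f z) (f w) hsp
    haveI := H3Cyc.GenStalk.isLocalization_stalkSpecializes (f z) (f w) hsp
    obtain ⟨⟨α, s⟩, hαs⟩ := IsLocalization.surj (RingHom.ker (Cyc.specMap (f z) (f w) hsp)).primeCompl c'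
    refine s.2 ?_
    have hbp : b ∈ RingHom.ker (Cyc.specMap (f z) (f w) hsp) := by
      rw [H3Cyc.GenStalk.mem_ker_iff, mem_maximalIdeal, mem_nonunits_iff]
      intro hu
      have hbq : f.stalkMap z b ∈ RingHom.ker (Cyc.specMap z w hwz) :=
        hqker ▸ hq.1.2 (Ideal.mem_span_singleton_self _)
      rw [H3Cyc.GenStalk.mem_ker_iff, mem_maximalIdeal, mem_nonunits_iff,
        ← Scheme.Hom.stalkSpecializes_stalkMap_apply] at hbq
      exact hbq (hu.map _)
    have h2 : f.stalkMap z s.1 * t = f.stalkMap z α := by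
      refine specializes_injective hwz ?_
      rw [map_mul, ← hc', ← Scheme.Hom.stalkSpecializes_stalkMap_apply,
        ← Scheme.Hom.stalkSpecializes_stalkMap_apply, ← map_mul, mul_comm]
      exact congrArg _ hαs
    have h3 : s.1 * a = α * b := hinj (by
      rw [map_mul, map_mul, ← hab, ← h2]
      ring)
    exact Ideal.mem_of_dvd _ (hrel.symm.dvd_of_dvd_mul_right (h3 ▸ dvd_mul_left b α)) hbp
  have hqmax : q = maximalIdeal (X.presheaf.stalk z) := by
    have h := hmax _ hwE hwz
    have : (⟨q, hq.1.1⟩ : PrimeSpectrum (X.presheaf.stalk z)) = closedPoint _ :=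
      (X.fromSpecStalk z).isEmbedding.injective (h.trans Scheme.fromSpecStalk_closedPoint.symm)
    exact congrArg PrimeSpectrum.asIdeal this
  have hht : (maximalIdeal (X.presheaf.stalk z)).height ≤ 1 := by
    have hq' := hqmax ▸ hq
    exact Ideal.height_le_one_of_isPrincipal_of_mem_minimalPrimes _ _ hq'
  intro w hw
  obtain ⟨p, rfl⟩ : w ∈ Set.range (X.fromSpecStalk z) := by rw [Scheme.range_fromSpecStalk]; exact hw
  by_cases h0 : p.asIdeal = ⊥
  · left
    obtain ⟨p₀, hp₀⟩ : genericPoint X ∈ Set.range (X.fromSpecStalk z) := by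
      rw [Scheme.range_fromSpecStalk]; exact genericPoint_specializes z
    refine (Specializes.antisymm ?_ (genericPoint_specializes _)).eq
    rw [← hp₀]
    exact ((PrimeSpectrum.le_iff_specializes _ _).1 (show p.asIdeal ≤ p₀.asIdeal by rw [h0]; exact bot_le)).map
      (X.fromSpecStalk z).continuous
  · right
    have hp : p.asIdeal = maximalIdeal (X.presheaf.stalk z) := by
      by_contra hne
      have hlt : p.asIdeal < maximalIdeal (X.presheaf.stalk z) :=
        lt_of_le_of_ne (IsLocalRing.le_maximalIdeal p.2.ne_top) hne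
      haveI : p.asIdeal.IsPrime := p.2
      have h1 := (Ideal.height_add_one_le_of_lt_of_isPrime hlt).trans hht
      have h2 : p.asIdeal.height = 0 := by
        rw [← nonpos_iff_eq_zero]
        exact (ENat.add_le_add_iff_right ENat.one_ne_top).1 (h1.trans_eq (zero_add 1).symm)
      rw [Ideal.height_eq_zero_iff_eq_bot] at h2
      exact h0 h2
    rw [show p = closedPoint _ from PrimeSpectrum.ext hp]
    exact Scheme.fromSpecStalk_closedPoint

end Groth.Agent.H23Exc
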