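import Mathlib
import Groth.Agent.H23Exc.Local
import Groth.Agent.H22Alg.VarDim
import Groth.Agent.H19Grp.RegularSmooth
set_option linter.style.haveILetI false
set_option backward.isDefEq.respectTransparency false

/-! Purity of the exceptional locus. -/

universe u

open CategoryTheory CategoryTheory.Limits AlgebraicGeometry TopologicalSpace
open Groth.Agent.H8Props.FieldDim (cdim)

namespace Groth.Agent.H23Exc

theorem main (k : Type u) [Field k] {X Y : Scheme.{u}} (sX : X ⟶ Spec (CommRingCat.of k))
    (sY : Y ⟶ Spec (CommRingCat.of k)) [IsIntegral X] [LocallyOfFiniteType sX] [IsIntegral Y] [Smooth sY]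
    (f : X ⟶ Y) [IsProper f] (hbir : ∃ V : Y.Opens, (V : Set Y).Nonempty ∧ IsIso (f ∣_ V)) :
    ∀ Z ∈ irreducibleComponents ↥{x : X | ∀ V : Y.Opens, f x ∈ V → ¬ IsIso (f ∣_ V)},
      topologicalKrullDim ↥Z + 1 = topologicalKrullDim X := by
  intro Z hZ
  haveI : IsLocallyNoetherian X := LocallyOfFiniteType.isLocallyNoetherian sX
  haveI : IsLocallyNoetherian Y := LocallyOfFiniteType.isLocallyNoetherian sY
  obtain ⟨V, hVne, hV⟩ := hbir
  haveI := hV
  have hηV : f (genericPoint X) ∈ V := by
    obtain ⟨y, hy⟩ := hVne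
    obtain ⟨⟨x, hx⟩, -⟩ := (f ∣_ V).surjective ⟨y, hy⟩
    exact ((genericPoint_specializes x).map f.continuous).mem_open V.2 hx
  have hη : genericPoint X ∉ Exc f := fun h => h V hηV hV
  have hgen : f (genericPoint X) = genericPoint Y := by
    obtain ⟨⟨x, hx⟩, hxe⟩ := (f ∣_ V).surjective
      ⟨genericPoint Y, (genericPoint_specializes _).mem_open V.2 hηV⟩
    have e : f x = genericPoint Y := by
      have := congrArg V.ι hxe
      rw [← Scheme.Hom.comp_apply, morphismRestrict_ι, Scheme.Hom.comp_apply] at this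
      exact this
    exact (((genericPoint_specializes x).map f.continuous).trans (specializes_of_eq e)).antisymm
      (genericPoint_specializes _) |>.eq
  have hcl : IsClosed (Exc f) := isClosed_exc f
  have hirr : IsIrreducible (Subtype.val '' Z : Set X) := hZ.1.image _ continuous_subtype_val.continuousOn
  have hZc : IsClosed (Subtype.val '' Z : Set X) :=
    hcl.isClosedEmbedding_subtypeVal.isClosedMap _ (isClosed_of_mem_irreducibleComponents Z hZ)
  obtain ⟨z, hz⟩ := QuasiSober.sober hirr hZc
  obtain ⟨z', hz'Z, hz'⟩ := hz.mem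
  have hzE : z ∈ Exc f := hz' ▸ z'.2
  have hmax : ∀ w, w ∈ Exc f → w ⤳ z → w = z := by
    intro w hw hwz
    have hsub : Z ⊆ closure ({⟨w, hw⟩} : Set ↥(Exc f)) := fun a ha => by
      rw [Topology.IsEmbedding.subtypeVal.closure_eq_preimage_closure_image, Set.image_singleton]
      exact (hwz.trans (hz.specializes ⟨a, ha, rfl⟩)).mem_closure
    have h : (⟨w, hw⟩ : ↥(Exc f)) ∈ Z :=
      hZ.2 isIrreducible_singleton.closure hsub (subset_closure rfl)
    exact (hwz.antisymm (hz.specializes ⟨_, h, rfl⟩)).eq
  have himm := immediate_of_maximal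
    (fun y => H19Grp.isRegularLocalRing_stalk_of_smooth sY y) hη hgen hzE hmax
  have hne : genericPoint X ≠ z := fun h => hη (h ▸ hzE)
  have h1 := H22Alg.VarDim.cdim_of_immediate k X sX (genericPoint_specializes z) hne
    fun w _ hw => himm w hw
  have h2 : cdim z = topologicalKrullDim ↥Z := by
    show topologicalKrullDim ↥(closure ({z} : Set X)) = _
    rw [hz.def]
    exact (IsHomeomorph.topologicalKrullDim_eq _
      (Topology.IsEmbedding.subtypeVal.homeomorphImage Z).isHomeomorph).symm
  rw [← h2, ← h1, cdim, genericPoint_closure]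
  exact IsHomeomorph.topologicalKrullDim_eq _ (Homeomorph.Set.univ X).isHomeomorph

end Groth.Agent.H23Exc
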